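import Mathlib

/-!
Monomial matrices.
-/

set_option autoImplicit false
set_option linter.unusedSectionVars false

namespace Cfsg.Agent.H709.Mono

open Matrix

variable {ι F : Type*} [Fintype ι] [DecidableEq ι] [Field F]

/-- `A` is a monomial matrix with underlying permutation `π`. -/
def IsMono (A : Matrix ι ι F) (π : Equiv.Perm ι) : Prop := ∀ i j, i ≠ π j → A i j = 0

theorem isMono_one : IsMono (1 : Matrix ι ι F) 1 := by
  intro i j h
  exact Matrix.one_apply_ne h

theorem isMono_diagonal (d : ι → F) : IsMono (Matrix.diagonal d) 1 := by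
  intro i j h
  exact Matrix.diagonal_apply_ne _ h

theorem IsMono.mul_apply {A B : Matrix ι ι F} {τ : Equiv.Perm ι} (hB : IsMono B τ) (i j : ι) :
    (A * B) i j = A i (τ j) * B (τ j) j := by
  rw [Matrix.mul_apply, Finset.sum_eq_single (τ j)]
  · intro k _ hk
    rw [hB k j hk, mul_zero]
  · intro h
    exact (h (Finset.mem_univ _)).elim

theorem IsMono.mul {A B : Matrix ι ι F} {π τ : Equiv.Perm ι} (hA : IsMono A π) (hB : IsMono B τ) :
    IsMono (A * B) (π * τ) := by
  intro i j h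
  rw [hB.mul_apply, hA i (τ j) h, zero_mul]

theorem IsMono.apply_ne_zero {A : GL ι F} {π : Equiv.Perm ι} (hA : IsMono (A : Matrix ι ι F) π) (j : ι) :
    (A : Matrix ι ι F) (π j) j ≠ 0 := by
  intro h
  have h1 : (((A⁻¹ : GL ι F) : Matrix ι ι F) * (A : Matrix ι ι F)) j j = 1 := by
    rw [← Units.val_mul, inv_mul_cancel, Units.val_one, Matrix.one_apply_eq]
  rw [hA.mul_apply, h, mul_zero] at h1
  exact zero_ne_one h1

theorem IsMono.inv {A : GL ι F} {π : Equiv.Perm ι} (hA : IsMono (A : Matrix ι ι F) π) :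
    IsMono ((A⁻¹ : GL ι F) : Matrix ι ι F) π⁻¹ := by
  intro i k h
  obtain ⟨j, rfl⟩ := π.surjective k
  have h : i ≠ π.symm (π j) := h
  rw [Equiv.symm_apply_apply] at h
  have h1 : (((A⁻¹ : GL ι F) : Matrix ι ι F) * (A : Matrix ι ι F)) i j = 0 := by
    rw [← Units.val_mul, inv_mul_cancel, Units.val_one, Matrix.one_apply_ne h]
  rw [hA.mul_apply] at h1
  exact (mul_eq_zero.1 h1).resolve_right (hA.apply_ne_zero j)

theorem IsMono.unique {A : GL ι F} {π τ : Equiv.Perm ι} (hA : IsMono (A : Matrix ι ι F) π)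
    (hA' : IsMono (A : Matrix ι ι F) τ) : π = τ := by
  ext j
  by_contra h
  exact hA.apply_ne_zero j (hA' (π j) j h)

theorem IsMono.map {A : Matrix ι ι F} {π : Equiv.Perm ι} (hA : IsMono A π) (σ : F ≃+* F) :
    IsMono (A.map σ) π := by
  intro i j h
  rw [Matrix.map_apply, hA i j h, map_zero]

/-- The group of monomial matrices. -/
def monoGL (ι F : Type*) [Fintype ι] [DecidableEq ι] [Field F] : Subgroup (GL ι F) where
  carrier := {A | ∃ π, IsMono (A : Matrix ι ι F) π}
  one_mem' := ⟨1, isMono_one⟩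
  mul_mem' := by
    rintro A B ⟨π, hπ⟩ ⟨τ, hτ⟩
    exact ⟨π * τ, hπ.mul hτ⟩
  inv_mem' := by
    rintro A ⟨π, hπ⟩
    exact ⟨π⁻¹, hπ.inv⟩

theorem mem_monoGL {A : GL ι F} : A ∈ monoGL ι F ↔ ∃ π, IsMono (A : Matrix ι ι F) π := Iff.rfl

/-- The permutation underlying a monomial matrix. -/
noncomputable def perm (ι F : Type*) [Fintype ι] [DecidableEq ι] [Field F] : monoGL ι F →* Equiv.Perm ι where
  toFun A := A.2.choose
  map_one' := IsMono.unique (A := (1 : GL ι F)) (monoGL ι F).one_mem.choose_spec isMono_one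
  map_mul' A B := IsMono.unique (A := (A * B : GL ι F)) (monoGL ι F |>.mul_mem A.2 B.2).choose_spec
    (A.2.choose_spec.mul B.2.choose_spec)

theorem isMono_perm (A : monoGL ι F) : IsMono ((A : GL ι F) : Matrix ι ι F) (perm ι F A) :=
  A.2.choose_spec

theorem perm_eq {A : monoGL ι F} {π : Equiv.Perm ι} (h : IsMono ((A : GL ι F) : Matrix ι ι F) π) :
    perm ι F A = π := (isMono_perm A).unique h

end Cfsg.Agent.H709.Mono

namespace Cfsg.Agent.H709.Mono

/-- A permutation of the coordinates fixing the `p`-torsion of the diagonal torus modulo scalars is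
even. -/
theorem sign_eq_one {ι F : Type*} [Fintype ι] [DecidableEq ι] [Field F] {p : ℕ} (hp : p.Prime)
    (hp2 : p ≠ 2) {ζ : F} (hζ : IsPrimitiveRoot ζ p) (π : Equiv.Perm ι)
    (h : ∀ a : ι → F, (∀ i, a i ^ p = 1) → ∏ i, a i = 1 → ∃ c : F, ∀ j, a (π j) = c * a j) :
    Equiv.Perm.sign π = 1 := by
  by_cases h1 : ∀ i, π i = i
  · have : π = 1 := Equiv.ext h1
    rw [this, map_one]
  push Not at h1
  obtain ⟨i, hi⟩ := h1
  have hζ0 : ζ ≠ 0 := hζ.ne_zero hp.ne_zero
  have hp3 : 3 ≤ p := by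
    have := hp.two_le
    omega
  have hζ1 : ζ ≠ 1 := hζ.ne_one (by omega)
  have hζ2 : ζ ^ 2 ≠ 1 := by
    intro h2
    have := (hζ.pow_eq_one_iff_dvd 2).1 h2
    have := Nat.le_of_dvd (by norm_num) this
    omega
  have hζ4 : ζ ^ 4 ≠ 1 := by
    intro h2
    have h3 := (hζ.pow_eq_one_iff_dvd 4).1 h2
    have h4 : p ∣ 2 := hp.dvd_of_dvd_pow (show p ∣ 2 ^ 2 from h3)
    have := Nat.le_of_dvd (by norm_num) h4
    omega
  obtain ⟨j, hj⟩ : ∃ j, j = π i := ⟨_, rfl⟩
  have hij : j ≠ i := by rw [hj]; exact hi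
  let a : ι → F := fun k => if k = i then ζ else if k = j then ζ⁻¹ else 1
  have ai : a i = ζ := if_pos rfl
  have aj : a j = ζ⁻¹ := by
    change (if j = i then ζ else if j = j then ζ⁻¹ else 1) = _
    rw [if_neg hij, if_pos rfl]
  have ak : ∀ k, k ≠ i → k ≠ j → a k = 1 := by
    intro k h2 h3
    change (if k = i then ζ else if k = j then ζ⁻¹ else 1) = _
    rw [if_neg h2, if_neg h3]
  have hap : ∀ k, a k ^ p = 1 := by
    intro k
    by_cases h2 : k = i
    · rw [h2, ai, hζ.pow_eq_one]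
    by_cases h3 : k = j
    · rw [h3, aj, inv_pow, hζ.pow_eq_one, inv_one]
    rw [ak k h2 h3, one_pow]
  have haprod : ∏ k, a k = 1 := by
    rw [← Finset.prod_subset (Finset.subset_univ {i, j})]
    · rw [Finset.prod_pair hij.symm, ai, aj, mul_inv_cancel₀ hζ0]
    · intro k _ hk
      rw [Finset.mem_insert, Finset.mem_singleton, not_or] at hk
      exact ak k hk.1 hk.2
  obtain ⟨c, hc⟩ := h a hap haprod
  have hc1 : c * ζ = ζ⁻¹ := by
    have := hc i
    rw [← hj, aj, ai] at this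
    exact this.symm
  have hc2 : c = (ζ ^ 2)⁻¹ := by
    apply eq_inv_of_mul_eq_one_left
    rw [pow_two, ← mul_assoc, hc1, inv_mul_cancel₀ hζ0]
  -- `π j`
  have hπj := hc j
  rw [aj, hc2] at hπj
  have hk1 : π j ≠ i := by
    intro h2
    rw [h2, ai] at hπj
    apply hζ4
    field_simp at hπj
    linear_combination hπj
  have hk2 : π j ≠ j := by
    intro h2
    apply hij
    apply π.injective
    rw [h2, hj]
  rw [ak _ hk1 hk2] at hπj
  have hζ3 : ζ ^ 3 = 1 := by
    field_simp at hπj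
    linear_combination hπj
  have hcζ : c = ζ := by
    rw [hc2]
    apply inv_eq_of_mul_eq_one_left
    linear_combination hζ3
  have key : ∀ k, k ≠ i → k ≠ j → π k = i := by
    intro k h2 h3
    have h4 := hc k
    rw [ak k h2 h3, mul_one, hcζ] at h4
    by_contra h5
    by_cases h6 : π k = j
    · rw [h6, aj] at h4
      apply hζ2
      rw [pow_two]
      nth_rewrite 1 [← h4]
      exact inv_mul_cancel₀ hζ0
    · rw [ak _ h5 h6] at h4
      exact hζ1 h4.symm
  have h3 : π ^ 3 = 1 := by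
    have e : ∀ x, (π ^ 3) x = π (π (π x)) := fun x => rfl
    ext x
    rw [e, Equiv.Perm.one_apply]
    by_cases hx : x = i
    · rw [hx, ← hj]
      exact key _ hk1 hk2
    by_cases hx2 : x = j
    · rw [hx2, key _ hk1 hk2, ← hj]
    · have h4 : x = π j := π.injective ((key x hx hx2).trans (key _ hk1 hk2).symm)
      rw [key x hx hx2, ← hj, ← h4]
  have h4 := congrArg Equiv.Perm.sign h3
  rw [map_pow, map_one] at h4
  rcases Int.units_eq_one_or (Equiv.Perm.sign π) with h5 | h5
  · exact h5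
  · rw [h5] at h4
    exact absurd h4 (by decide)

end Cfsg.Agent.H709.Mono
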