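import Mathlib

/-!
The characteristic polynomial of a `p ^ f`-th power in characteristic `p`.
-/

set_option autoImplicit false

namespace Cfsg.Agent.H709.CharPow

open Polynomial Matrix

theorem charpoly_pow_char {n K : Type*} [DecidableEq n] [Fintype n] [Field K] (p : ℕ) [Fact p.Prime]
    [CharP K p] (f : ℕ) (M : Matrix n n K) :
    (M ^ p ^ f).charpoly = M.charpoly.map (iterateFrobenius K p f) := by
  cases (isEmpty_or_nonempty n).symm
  · have key : expand K (p ^ f) ((M ^ p ^ f).charpoly) = M.charpoly ^ p ^ f := by
      unfold charpoly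
      rw [AlgHom.map_det, ← coe_detMonoidHom, ← (detMonoidHom : Matrix n n K[X] →* K[X]).map_pow]
      apply congr_arg det
      refine matPolyEquiv.injective ?_
      rw [map_pow, matPolyEquiv_charmatrix, sub_pow_char_pow_of_commute, ← C_pow]
      · exact (id (matPolyEquiv_eq_X_pow_sub_C (p ^ f) M) :)
      · exact (C M).commute_X
    rw [← map_iterateFrobenius_expand, map_expand] at key
    exact expand_injective (pow_pos (Nat.Prime.pos Fact.out) f) key
  · unfold charpoly
    rw [Matrix.det_isEmpty, Matrix.det_isEmpty, Polynomial.map_one]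

end Cfsg.Agent.H709.CharPow
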