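import Cfsg.Agent.H709.GmnFus
import Cfsg.Agent.H709.GmnPSU
import Cfsg.Agent.H709.CharPow
import Cfsg.Agent.H183.SemisSU
import Cfsg.Agent.H103.PGUUpper
import Cfsg.Agent.S0279

/-!
`PSU_n(q)`, `r` a prime dividing neither `q` nor `q + 1`: elements of order `r` are conjugate to
their `(-q)`-th powers.
-/

set_option autoImplicit false
set_option linter.unusedSectionVars false

namespace Cfsg.Agent.H709.GmnPSUNot

open Cfsg Matrix
open Cfsg.Agent.LieClassical.SUBasic
open Cfsg.Agent.ClassicalGeometry.PSUAutCount Cfsg.Agent.ClassicalGeometry.UnitAutBasic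
open Cfsg.Agent.H709.GmnCrit

variable {K : Type*} [Field K] [Fintype K] {q n : ℕ}

theorem exists_char (hK : Fintype.card K = q ^ 2) : ∃ (p f : ℕ), p.Prime ∧ 1 ≤ f ∧ q = p ^ f ∧ CharP K p := by
  obtain ⟨p, hp⟩ := CharP.exists K
  obtain ⟨k, hpp, hk⟩ := FiniteField.card K p
  obtain ⟨f, -, hf⟩ := (Nat.dvd_prime_pow hpp).1 (show q ∣ p ^ (k : ℕ) from ⟨q, by rw [← hk, hK, sq]⟩)
  refine ⟨p, f, hpp, ?_, hf, hp⟩
  rcases Nat.eq_zero_or_pos f with h0 | h0
  · exfalso
    have := LieClassical.GUOrder.two_le hK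
    rw [hf, h0, pow_zero] at this
    omega
  · exact h0

/-- In `SU`, `g ^ q` is conjugate to `g⁻¹` for `g` of order prime to the characteristic. -/
theorem su_conj (hK : Fintype.card K = q ^ 2) (g : SU n K q) {r : ℕ} (hr : r.Prime) (hrq : ¬ r ∣ q)
    (hg : g ^ r = 1) : IsConj (g ^ q) g⁻¹ := by
  obtain ⟨p, f, hpp, hf, hq, hch⟩ := exists_char hK
  have : Fact p.Prime := ⟨hpp⟩
  have hrp : Nat.Coprime r p := (Nat.coprime_primes hr hpp).2 (by
    rintro rfl
    exact hrq (hq ▸ dvd_pow_self r (by omega)))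
  have ho : ∀ x : SU n K q, x ^ r = 1 → (orderOf x).Coprime p := fun x hx =>
    Nat.Coprime.coprime_dvd_left (orderOf_dvd_of_pow_eq_one hx) hrp
  apply Cfsg.Agent.H183.Semis.su_isConj hK p
  · apply ho
    rw [← pow_mul, mul_comm, pow_mul, hg, one_pow]
  · apply ho
    rw [inv_pow, hg, inv_one]
  · have hmem : ((g : Matrix.SpecialLinearGroup (Fin n) K) : GL (Fin n) K) ∈ GU n K q := g.2
    have h1 := Cfsg.Agent.H103.PGUUpper.charpoly_inv_map (p := p) hq hK
      (((g : Matrix.SpecialLinearGroup (Fin n) K) : GL (Fin n) K)⁻¹) ((GU n K q).inv_mem hmem)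
    rw [inv_inv] at h1
    have h2 : (((g ^ q : SU n K q) : Matrix.SpecialLinearGroup (Fin n) K) : Matrix (Fin n) (Fin n) K)
        = ((g : Matrix.SpecialLinearGroup (Fin n) K) : Matrix (Fin n) (Fin n) K) ^ (p ^ f) := by
      rw [← hq, Subgroup.coe_pow, Matrix.SpecialLinearGroup.coe_pow]
    rw [h2, Cfsg.Agent.H709.CharPow.charpoly_pow_char]
    exact h1

/-- Lifting elements of order `r` modulo a finite central subgroup of order prime to `r`. -/
theorem exists_lift {G : Type*} [Group G] {r : ℕ} (hr : r.Prime) (Z : Subgroup G) [Z.Normal]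
    (hZ : ¬ r ∣ Nat.card Z) (_hfin : Finite Z) (z : G ⧸ Z) (hz : z ^ r = 1) :
    ∃ g : G, QuotientGroup.mk g = z ∧ g ^ r = 1 := by
  obtain ⟨x, rfl⟩ := QuotientGroup.mk_surjective z
  have hcop : Nat.Coprime r (Nat.card Z) := (Nat.Prime.coprime_iff_not_dvd hr).2 hZ
  obtain ⟨m, -, hm⟩ := Nat.exists_mul_mod_eq_one_of_coprime hcop.symm hr.one_lt
  have hx : x ^ r ∈ Z := by
    rw [← QuotientGroup.eq_one_iff, QuotientGroup.mk_pow]
    exact hz
  have hx2 : (x ^ r) ^ Nat.card Z = 1 := by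
    have := pow_card_eq_one' (x := (⟨x ^ r, hx⟩ : Z))
    exact congrArg Subtype.val this
  refine ⟨x ^ (Nat.card Z * m), ?_, ?_⟩
  · rw [QuotientGroup.mk_pow]
    have h1 : Nat.card Z * m ≡ 1 [MOD r] := by
      rw [Nat.ModEq, hm, Nat.mod_eq_of_lt hr.one_lt]
    have h2 : Nat.card Z * m ≡ 1 [MOD orderOf (QuotientGroup.mk x : G ⧸ Z)] :=
      h1.of_dvd (orderOf_dvd_of_pow_eq_one hz)
    rw [pow_eq_pow_iff_modEq.2 h2, pow_one]
  · have h1 : Nat.card Z * m * r = r * Nat.card Z * m := by ring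
    rw [← pow_mul, h1, pow_mul, pow_mul, hx2, one_pow]

/-- **Row** `PSU_n(q)`, `p ∤ q (q + 1)`. -/
theorem good (hK : Fintype.card K = q ^ 2) (hn : 3 ≤ n)
    (h32 : ¬ (n = 3 ∧ q = 2)) {p : ℕ} [hp : Fact p.Prime] (hpq : ¬ p ∣ q) (hpq1 : ¬ p ∣ q + 1)
    (hdvd : p ∣ Nat.card (PSU n K q))
    (A : Subgroup (MulAut (PSU n K q))) (hA : IsPGroup p A) (Q : Sylow p (PSU n K q))
    (hQ : (Q : Subgroup (PSU n K q)).map MulAut.conj ≤ A) : Good p A := by
  have hfin : Finite (GU n K q) := LieClassical.GUOrder.finite_GU n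
  have hfinP : Finite (PSU n K q) := Finite.of_surjective _ (pr_surjective (n := n) (F := K) (q := q))
  have hsimple : IsSimpleGroup (PSU n K q) := Cfsg.Agent.S0283.result hK n hn h32
  have hperf : commutator (PSU n K q) = ⊤ := by
    have h3 := Cfsg.Agent.LieClassical.HermPerfect.commutator_SU_eq_top hK hn h32
    have h4 : (commutator (SU n K q)).map (pr n K q) = commutator (PSU n K q) := by
      rw [commutator_def, commutator_def, Subgroup.map_commutator, ← MonoidHom.range_eq_map,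
        MonoidHom.range_eq_top.2 pr_surjective]
    rw [← h4, h3, ← MonoidHom.range_eq_map, MonoidHom.range_eq_top.2 pr_surjective]
  have hZ := H183.OutPSU.center_eq_bot_of_perfect hperf
  refine GmnFus.good_of_fusion hZ hdvd ?_ A hA Q hQ
  intro z hz
  have hcard : Nat.card (Subgroup.center (SU n K q)) = Nat.gcd n (q + 1) := Cfsg.Agent.S0279.result hK n hn
  have hfinS : Finite (SU n K q) := inferInstance
  obtain ⟨g, hg1, hg2⟩ := exists_lift hp.out (Subgroup.center (SU n K q)) (by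
    rw [hcard]
    intro h
    exact hpq1 (h.trans (Nat.gcd_dvd_right _ _))) inferInstance z (by rw [← hz, pow_orderOf_eq_one])
  refine ⟨(p - 1) * q, ?_, ?_⟩
  · intro h
    apply hpq1
    have h1 : (p - 1) * q + q = p * q := by
      have := hp.out.one_lt
      obtain ⟨m, hm⟩ : ∃ m, p = m + 1 := ⟨p - 1, by omega⟩
      rw [hm]
      simp
      ring
    have h2 : (p - 1) * q + q ≡ 1 + q [MOD p] := Nat.ModEq.add_right q h
    rw [h1] at h2
    have h3 : 0 ≡ 1 + q [MOD p] := (Nat.modEq_zero_iff_dvd.2 (dvd_mul_right p q)).symm.trans h2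
    rw [add_comm]
    exact (Nat.modEq_zero_iff_dvd.1 h3.symm)
  · have h1 := su_conj hK g hp.out hpq hg2
    have h2 : IsConj (g⁻¹) (g ^ q) := h1.symm
    obtain ⟨c, hc⟩ := isConj_iff.1 h2
    have h3 : IsConj g (g ^ ((p - 1) * q)) := by
      rw [isConj_iff]
      refine ⟨c, ?_⟩
      have h4 : c * g * c⁻¹ = (g ^ q)⁻¹ := by
        rw [← hc]
        group
      rw [h4, pow_mul]
      have h5 : g ^ (p - 1) = g⁻¹ := by
        rw [eq_inv_iff_mul_eq_one, ← pow_succ]
        have : p - 1 + 1 = p := by have := hp.out.one_lt; omega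
        rw [this, hg2]
      rw [h5, inv_pow]
    have h6 := MonoidHom.map_isConj (QuotientGroup.mk' (Subgroup.center (SU n K q))) h3
    rw [map_pow] at h6
    change IsConj (QuotientGroup.mk g) ((QuotientGroup.mk g : PSU n K q) ^ ((p - 1) * q)) at h6
    rwa [hg1] at h6

end Cfsg.Agent.H709.GmnPSUNot

namespace Cfsg.Agent.H709.GmnPSUNot

/-- **Rows R6 and R7**: `PSU_n(q)`, all odd primes different from the characteristic. -/
theorem good_all {K : Type*} [Field K] [Fintype K] {q n : ℕ} (hK : Fintype.card K = q ^ 2) (hn : 3 ≤ n)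
    (h32 : ¬ (n = 3 ∧ q = 2)) {p : ℕ} [Fact p.Prime] (hp2 : p ≠ 2) (hpq : ¬ p ∣ q)
    (hdvd : p ∣ Nat.card (PSU n K q))
    (A : Subgroup (MulAut (PSU n K q))) (hA : IsPGroup p A) (Q : Sylow p (PSU n K q))
    (hQ : (Q : Subgroup (PSU n K q)).map MulAut.conj ≤ A) : GmnCrit.Good p A := by
  by_cases h : p ∣ q + 1
  · exact GmnPSU.good hK hn h32 hp2 h A hA Q hQ
  · exact good hK hn h32 hpq h hdvd A hA Q hQ

end Cfsg.Agent.H709.GmnPSUNot
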