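import Mathlib
import Cfsg.Agent.H709.GmnCrit
import Cfsg.Agent.ClassicalGeometry.OrthSemiCount

/-!
Frames of orthogonal spaces: the orthogonal sum of `m` copies of a quadratic space `(W, N)`, the
semisimilitudes permuting the summands.
-/

set_option autoImplicit false

namespace Cfsg.Agent.H709.OrthFrame

open QuadraticMap Cfsg.Agent.LieClassical.OrthCore Cfsg.Agent.LieClassical.OrthTrans
  Cfsg.Agent.LieClassical.OrthSimple Cfsg.Agent.ClassicalGeometry.OrthSemi
  Cfsg.Agent.ClassicalGeometry.OrthSemiCount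

variable {F W : Type*} [Field F] [AddCommGroup W] [Module F W] {m : ℕ}

/-- the orthogonal sum of `m` copies of `N` -/
def frm (m : ℕ) (N : QuadraticForm F W) : QuadraticForm F (Fin m → W) := QuadraticMap.pi fun _ => N

variable {N : QuadraticForm F W}

theorem frm_apply (v : Fin m → W) : frm m N v = ∑ i, N (v i) := QuadraticMap.pi_apply _ _

theorem frm_single (i : Fin m) (w : W) : frm m N (Pi.single i w) = N w :=
  QuadraticMap.pi_apply_single (fun _ => N) i w

theorem polar_frm (v w : Fin m → W) : polar (frm m N) v w = ∑ i, polar N (v i) (w i) := by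
  simp only [QuadraticMap.polar, frm_apply, Pi.add_apply, Finset.sum_sub_distrib]

theorem nondeg_frm (hN : Nondeg N) : Nondeg (frm m N) := by
  intro x hx
  funext i
  apply hN
  intro y
  have := hx (Pi.single i y)
  rw [polar_frm, Finset.sum_eq_single i] at this
  · rwa [Pi.single_eq_same] at this
  · intro j _ hj
    rw [Pi.single_eq_of_ne hj, polar_zero_right]
  · intro h
    exact absurd (Finset.mem_univ i) h

/-! ### Monomial maps -/

/-- `M` maps the `i`-th summand into the `π i`-th one -/
def IsM (M : (Fin m → W) → (Fin m → W)) (π : Equiv.Perm (Fin m)) : Prop :=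
  ∀ i w j, j ≠ π i → M (Pi.single i w) j = 0

theorem IsM.eq_single {M : (Fin m → W) → (Fin m → W)} {π : Equiv.Perm (Fin m)} (h : IsM M π)
    (i : Fin m) (w : W) : M (Pi.single i w) = Pi.single (π i) (M (Pi.single i w) (π i)) := by
  funext j
  by_cases hj : j = π i
  · subst hj
    rw [Pi.single_eq_same]
  · rw [h i w j hj, Pi.single_eq_of_ne hj]

theorem isM_id : IsM (m := m) (W := W) id 1 := by
  intro i w j hj
  exact Pi.single_eq_of_ne hj _

theorem IsM.comp {M M' : (Fin m → W) → (Fin m → W)} {π π' : Equiv.Perm (Fin m)} (h : IsM M π)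
    (h' : IsM M' π') : IsM (fun v => M (M' v)) (π * π') := by
  intro i w j hj
  simp only
  rw [h'.eq_single]
  exact h _ _ _ hj

theorem sum_single_apply (v : Fin m → W) : v = ∑ i, Pi.single i (v i) :=
  (Finset.univ_sum_single v).symm

theorem map_sum_of_add {M : (Fin m → W) → (Fin m → W)} (h0 : M 0 = 0)
    (hadd : ∀ u v, M (u + v) = M u + M v) {ι : Type*} (s : Finset ι) (f : ι → (Fin m → W)) :
    M (∑ i ∈ s, f i) = ∑ i ∈ s, M (f i) := by
  classical
  induction s using Finset.induction_on with
  | empty => simpa using h0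
  | insert a s ha ih => rw [Finset.sum_insert ha, hadd, ih, Finset.sum_insert ha]

/-- the value at `π i` only depends on the `i`-th coordinate -/
theorem IsM.apply {M : (Fin m → W) → (Fin m → W)} (h0 : M 0 = 0)
    (hadd : ∀ u v, M (u + v) = M u + M v) {π : Equiv.Perm (Fin m)} (h : IsM M π) (v : Fin m → W)
    (i : Fin m) : M v (π i) = M (Pi.single i (v i)) (π i) := by
  conv_lhs => rw [sum_single_apply v]
  rw [map_sum_of_add h0 hadd, Finset.sum_apply, Finset.sum_eq_single i]
  · intro j _ hj
    exact h _ _ _ fun e => hj (π.injective e).symm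
  · intro h
    exact absurd (Finset.mem_univ i) h

theorem IsM.unique [Nontrivial W] {M : (Fin m → W) → (Fin m → W)} (h0 : M 0 = 0)
    (hinj : Function.Injective M) {π π' : Equiv.Perm (Fin m)} (h : IsM M π) (h' : IsM M π') :
    π = π' := by
  obtain ⟨w, hw⟩ := exists_ne (0 : W)
  ext i
  by_contra hne
  have hne' : π i ≠ π' i := fun e => hne (congrArg Fin.val e)
  have h1 : M (Pi.single i w) = 0 := by
    rw [h.eq_single, h' _ _ _ hne', Pi.single_zero]
  rw [← h0] at h1
  have h2 := congrFun (hinj h1) i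
  rw [Pi.single_eq_same] at h2
  exact hw h2

theorem IsM.symm {M : Equiv.Perm (Fin m → W)} (h0 : M 0 = 0)
    (hadd : ∀ u v, M (u + v) = M u + M v) {π : Equiv.Perm (Fin m)} (h : IsM M π) :
    IsM (M⁻¹ : Equiv.Perm (Fin m → W)) π⁻¹ := by
  intro j w i hi
  obtain ⟨v, hv⟩ : ∃ v, v = (M⁻¹ : Equiv.Perm (Fin m → W)) (Pi.single j w) := ⟨_, rfl⟩
  rw [← hv]
  have hMv : M v = Pi.single j w := by
    rw [hv]
    exact M.apply_symm_apply _
  have hij : π i ≠ j := by
    intro e
    apply hi
    rw [← e]
    exact (π.symm_apply_apply i).symm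
  have h1 : M (Pi.single i (v i)) (π i) = 0 := by
    rw [← IsM.apply h0 hadd h v i, hMv]
    exact Pi.single_eq_of_ne hij _
  have h2 : M (Pi.single i (v i)) = 0 := by
    rw [h.eq_single, h1, Pi.single_zero]
  rw [← h0] at h2
  have h3 := congrFun (M.injective h2) i
  rwa [Pi.single_eq_same] at h3

theorem gam_map_zero {V : Type*} [AddCommGroup V] [Module F V] {Q : QuadraticForm F V} (M : Gam Q) :
    M.1 0 = 0 := by
  obtain ⟨σ, c, hM⟩ := M.2
  exact hM.map_zero

/-- the semisimilitudes permuting the summands -/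
def X (m : ℕ) (N : QuadraticForm F W) : Subgroup (Gam (frm m N)) where
  carrier := {M | ∃ π, IsM M.1 π}
  one_mem' := ⟨1, isM_id⟩
  mul_mem' := by
    rintro M M' ⟨π, h⟩ ⟨π', h'⟩
    exact ⟨π * π', h.comp h'⟩
  inv_mem' := by
    rintro M ⟨π, h⟩
    exact ⟨π⁻¹, h.symm (gam_map_zero M) (add_of_mem M.2)⟩

theorem mem_X {M : Gam (frm m N)} : M ∈ X m N ↔ ∃ π, IsM M.1 π := Iff.rfl

theorem permX_aux (M : X m N) : ∃ π, IsM (M : Gam (frm m N)).1 π := M.2

theorem isM_unique [Nontrivial W] {M : Gam (frm m N)} {π π' : Equiv.Perm (Fin m)} (h : IsM M.1 π)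
    (h' : IsM M.1 π') : π = π' := IsM.unique (gam_map_zero M) M.1.injective h h'

/-- the permutation of the summands -/
noncomputable def permX (m : ℕ) (N : QuadraticForm F W) [Nontrivial W] :
    X m N →* Equiv.Perm (Fin m) where
  toFun M := (permX_aux M).choose
  map_one' := isM_unique (permX_aux (1 : X m N)).choose_spec isM_id
  map_mul' M M' := isM_unique (permX_aux (M * M')).choose_spec
    ((permX_aux M).choose_spec.comp (permX_aux M').choose_spec)

theorem isM_permX [Nontrivial W] (M : X m N) : IsM (M : Gam (frm m N)).1 (permX m N M) :=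
  (permX_aux M).choose_spec

theorem permX_eq [Nontrivial W] {M : X m N} {π : Equiv.Perm (Fin m)}
    (h : IsM (M : Gam (frm m N)).1 π) : permX m N M = π := isM_unique (isM_permX M) h

/-! ### Isometries -/

/-- isometries as semisimilitudes -/
def toG {V : Type*} [AddCommGroup V] [Module F V] (Q : QuadraticForm F V) : O Q →* Gam Q :=
  (permO Q).codRestrict (Gam Q) fun g => ⟨_, _, isSS_permO g⟩

theorem toG_apply {V : Type*} [AddCommGroup V] [Module F V] {Q : QuadraticForm F V} (g : O Q)
    (v : V) : (toG Q g).1 v = g.1 v := rfl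

theorem toG_injective {V : Type*} [AddCommGroup V] [Module F V] {Q : QuadraticForm F V} :
    Function.Injective (toG Q) := by
  intro g h e
  exact permO_injective (congrArg Subtype.val e)

theorem exists_toG {V : Type*} [AddCommGroup V] [Module F V] {Q : QuadraticForm F V} {M : Gam Q}
    (h : IsSS Q (RingEquiv.refl F) 1 M.1) : ∃ g : O Q, toG Q g = M := by
  obtain ⟨g, hg⟩ := exists_permO h
  exact ⟨g, Subtype.ext hg⟩

/-- the isometries form a normal subgroup -/
theorem conj_toG {V : Type*} [AddCommGroup V] [Module F V] {Q : QuadraticForm F V} (M : Gam Q)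
    (g : O Q) : ∃ g' : O Q, toG Q g' = M * toG Q g * M⁻¹ := by
  apply exists_toG
  obtain ⟨σ, c, hM⟩ := M.2
  have h1 := (hM.mul (isSS_permO g)).mul hM.inv
  have e1 : (σ.symm.trans ((RingEquiv.refl F).trans σ)) = RingEquiv.refl F := by
    ext x
    simp
  have e2 : c * σ 1 * ((RingEquiv.refl F).trans σ) (σ.symm c⁻¹) = 1 := by
    rw [map_one, mul_one]
    simp [mul_inv_cancel₀ hM.ne]
  rw [e1, e2] at h1
  exact h1

/-- diagonal isometries -/
def dgO (m : ℕ) (N : QuadraticForm F W) : (Fin m → O N) →* O (frm m N) where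
  toFun g := ⟨LinearEquiv.piCongrRight fun i => (g i : W ≃ₗ[F] W), fun v => by
    rw [frm_apply, frm_apply]
    exact Finset.sum_congr rfl fun i _ => (g i).2 (v i)⟩
  map_one' := rfl
  map_mul' _ _ := rfl

theorem dgO_apply (g : Fin m → O N) (v : Fin m → W) (i : Fin m) :
    (dgO m N g).1 v i = (g i).1 (v i) := rfl

theorem dgO_single (g : Fin m → O N) (i : Fin m) (w : W) :
    (dgO m N g).1 (Pi.single i w) = Pi.single i ((g i).1 w) := by
  funext j
  rw [dgO_apply]
  by_cases hj : j = i
  · subst hj
    rw [Pi.single_eq_same, Pi.single_eq_same]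
  · rw [Pi.single_eq_of_ne hj, Pi.single_eq_of_ne hj, map_zero]

theorem dgO_injective : Function.Injective (dgO m N) := by
  intro g h e
  funext i
  apply Subtype.ext
  ext w
  have h1 := congrArg (fun x : O (frm m N) => x.1 (Pi.single i w) i) e
  simp only [dgO_apply, Pi.single_eq_same] at h1
  exact h1

theorem isM_dgO (g : Fin m → O N) : IsM (toG _ (dgO m N g)).1 1 := by
  intro i w j hj
  rw [toG_apply, dgO_single]
  exact Pi.single_eq_of_ne hj _

/-- permutation isometries -/
def pmO (m : ℕ) (N : QuadraticForm F W) (π : Equiv.Perm (Fin m)) : O (frm m N) :=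
  ⟨LinearEquiv.funCongrLeft F W π⁻¹, fun v => by
    rw [frm_apply, frm_apply]
    exact Equiv.sum_comp (π⁻¹ : Equiv.Perm (Fin m)) fun i => N (v i)⟩

theorem pmO_apply (π : Equiv.Perm (Fin m)) (v : Fin m → W) (i : Fin m) :
    (pmO m N π).1 v i = v (π⁻¹ i) := rfl

theorem isM_pmO (π : Equiv.Perm (Fin m)) : IsM (toG _ (pmO m N π)).1 π := by
  intro i w j hj
  rw [toG_apply, pmO_apply, Pi.single_eq_of_ne]
  intro e
  apply hj
  rw [← e]
  exact (π.apply_symm_apply j).symm

/-- a diagonal isometry comes from isometries of the summands -/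
theorem exists_dgO {g : O (frm m N)} (h : IsM (toG _ g).1 1) : ∃ t, dgO m N t = g := by
  have hs : ∀ i w, g.1 (Pi.single i w) = Pi.single i (g.1 (Pi.single i w) i) := fun i w =>
    h.eq_single i w
  have hs' : ∀ i w, g.1.symm (Pi.single i w) = Pi.single i (g.1.symm (Pi.single i w) i) := by
    intro i w
    have := (IsM.symm (gam_map_zero (toG _ g)) (add_of_mem (toG _ g).2) h).eq_single i w
    rw [inv_one] at this
    exact this
  let t : Fin m → O N := fun i =>
    ⟨{ toFun := fun w => g.1 (Pi.single i w) i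
       invFun := fun w => g.1.symm (Pi.single i w) i
       map_add' := fun u v => by rw [Pi.single_add, map_add]; rfl
       map_smul' := fun c v => by rw [Pi.single_smul, map_smul]; rfl
       left_inv := fun w => by
        simp only
        rw [← hs, LinearEquiv.symm_apply_apply, Pi.single_eq_same]
       right_inv := fun w => by
        simp only
        rw [← hs', LinearEquiv.apply_symm_apply, Pi.single_eq_same] }, fun w => by
        show N (g.1 (Pi.single i w) i) = N w
        rw [← frm_single (m := m) i w, ← g.2 (Pi.single i w), hs, frm_single, Pi.single_eq_same]⟩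
  refine ⟨t, ?_⟩
  apply Subtype.ext
  apply LinearEquiv.ext
  intro v
  funext i
  rw [dgO_apply]
  exact (IsM.apply (gam_map_zero (toG _ g)) (add_of_mem (toG _ g).2) h v i).symm

end Cfsg.Agent.H709.OrthFrame
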