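import Mathlib
import Cfsg.Agent.H709.OrthFrameB
import Cfsg.Agent.H712.GmnStrong

/-!
Frames of orthogonal spaces and the Guralnick–Malle–Navarro rows.
-/

set_option autoImplicit false

namespace Cfsg.Agent.H709.OrthFrame

open QuadraticMap Cfsg.Agent.LieClassical.OrthCore Cfsg.Agent.LieClassical.OrthTrans
  Cfsg.Agent.LieClassical.OrthSimple Cfsg.Agent.ClassicalGeometry.OrthSemi
  Cfsg.Agent.ClassicalGeometry.OrthSemiCount Cfsg.Agent.H709.GmnCrit

variable {F W : Type*} [Field F] [AddCommGroup W] [Module F W] {m : ℕ} {N : QuadraticForm F W}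

/-- `Ω / Z` -/
abbrev PE {V : Type*} [AddCommGroup V] [Module F V] (Q : QuadraticForm F V) : Type _ :=
  ↥(E Q) ⧸ Subgroup.center ↥(E Q)

theorem Psi_toG {V : Type*} [AddCommGroup V] [Module F V] {Q : QuadraticForm F V} (g : O Q)
    (hg : g.1 ∈ E Q) : Psi Q (toG Q g) = MulAut.conj (QuotientGroup.mk (⟨g.1, hg⟩ : ↥(E Q)) : PE Q) := by
  apply MulEquiv.ext
  intro x
  induction x using QuotientGroup.induction_on with
  | H h =>
    rw [Psi_mk, MulAut.conj_apply, ← QuotientGroup.mk_mul, ← QuotientGroup.mk_inv,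
      ← QuotientGroup.mk_mul]
    congr 1

/-- elements of order a power of `p` commute -/
def PComm (p : ℕ) (N : QuadraticForm F W) : Prop :=
  ∀ g h : O N, (∃ k, g ^ p ^ k = 1) → (∃ k, h ^ p ^ k = 1) → Commute g h

/-- diagonal isometries of order a power of `p` -/
def T (m : ℕ) {N : QuadraticForm F W} {p : ℕ} (hN : PComm p N) : Subgroup (Gam (frm m N)) where
  carrier := {M | ∃ t : Fin m → O N, (∃ k, t ^ p ^ k = 1) ∧ toG _ (dgO m N t) = M}
  one_mem' := ⟨1, ⟨0, one_pow _⟩, by rw [map_one, map_one]⟩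
  mul_mem' := by
    rintro _ _ ⟨t, ⟨k, hk⟩, rfl⟩ ⟨s, ⟨l, hl⟩, rfl⟩
    refine ⟨t * s, ⟨k + l, ?_⟩, by rw [map_mul, map_mul]⟩
    have hc : Commute t s := by
      funext i
      exact hN (t i) (s i) ⟨k, congrFun hk i⟩ ⟨l, congrFun hl i⟩
    rw [hc.mul_pow, pow_add, pow_mul, hk, one_pow, mul_comm (p ^ k), pow_mul, hl, one_pow, one_mul]
  inv_mem' := by
    rintro _ ⟨t, ⟨k, hk⟩, rfl⟩
    exact ⟨t⁻¹, ⟨k, by rw [inv_pow, hk, inv_one]⟩, by rw [map_inv, map_inv]⟩

theorem T_le_X {p : ℕ} (hN : PComm p N) : T m hN ≤ X m N := by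
  rintro _ ⟨t, -, rfl⟩
  exact ⟨1, isM_dgO t⟩

theorem T_pGroup {p : ℕ} (hN : PComm p N) : IsPGroup p (T m hN) := by
  rintro ⟨_, t, ⟨k, hk⟩, rfl⟩
  refine ⟨k, Subtype.ext ?_⟩
  show (toG _ (dgO m N t)) ^ p ^ k = 1
  rw [← map_pow, ← map_pow, hk, map_one, map_one]

theorem T_conj {p : ℕ} (hN : PComm p N) {y : Gam (frm m N)} (hy : y ∈ X m N) {t : Gam (frm m N)}
    (ht : t ∈ T m hN) : y * t * y⁻¹ ∈ T m hN := by
  obtain ⟨π, hπ⟩ := hy
  obtain ⟨t, ⟨k, hk⟩, rfl⟩ := ht
  obtain ⟨g, hg⟩ := conj_toG y (dgO m N t)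
  have h1 : IsM (toG _ g).1 1 := by
    rw [hg]
    have := (hπ.comp (isM_dgO t)).comp (hπ.symm (gam_map_zero y) (add_of_mem y.2))
    rw [mul_one, mul_inv_cancel] at this
    exact this
  obtain ⟨s, hs⟩ := exists_dgO h1
  refine ⟨s, ⟨k, ?_⟩, by rw [hs, hg]⟩
  apply dgO_injective
  apply toG_injective
  rw [map_pow, map_pow, hs, hg, conj_pow, ← map_pow, ← map_pow, hk, map_one, map_one, mul_one,
    mul_inv_cancel]

theorem pmO_swap_perm (i j : Fin m) : IsM (toG _ (pmO m N (Equiv.swap i j))).1 (Equiv.swap i j) :=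
  isM_pmO _

theorem center_PE {V : Type*} [AddCommGroup V] [Module F V] {Q : QuadraticForm F V} (hG : Good Q) :
    Subgroup.center (PE Q) = ⊥ := by
  have hsimple : IsSimpleGroup (PE Q) := good_isSimpleGroup hG
  have hperf : commutator (PE Q) = ⊤ := by
    have h1 := commutator_E hG
    rw [← Subgroup.map_top_of_surjective (QuotientGroup.mk' (Subgroup.center ↥(E Q)))
      (QuotientGroup.mk'_surjective _)]
    conv_rhs => rw [← h1]
    rw [commutator_def, commutator_def, Subgroup.map_commutator,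
      Subgroup.map_top_of_surjective _ (QuotientGroup.mk'_surjective _)]
  rcases (Subgroup.Normal.eq_bot_or_eq_top (inferInstance : (Subgroup.center (PE Q)).Normal)) with h | h
  · exact h
  · exfalso
    have h1 : commutator (PE Q) = ⊥ := by
      rw [commutator_eq_bot_iff_center_eq_top]
      exact h
    rw [hperf] at h1
    exact bot_ne_top h1.symm

/-- **The frame criterion.** -/
theorem good_frame [Finite F] [Finite W] (hG : Good (frm m N)) (h3 : 3 ≤ m)
    (huniv : ∀ c : F, ∃ w, N w = c)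
    (hss : ∀ (σ : F ≃+* F) (c : F), c ≠ 0 → ∃ M, IsSS N σ c M)
    {p : ℕ} [hp : Fact p.Prime] (hp2 : p ≠ 2) (hN : PComm p N) (hpN : p ∣ Nat.card (O N))
    (hval : padicValNat p (Nat.card (O (frm m N))) =
      padicValNat p (Nat.card (O N) ^ m * m.factorial))
    (A : Subgroup (MulAut (PE (frm m N)))) (hA : IsPGroup p A) (hAρ : A ≤ (Psi (frm m N)).range)
    (Q : Sylow p (PE (frm m N)))
    (hQ : (Q : Subgroup (PE (frm m N))).map MulAut.conj ≤ A) : GmnCrit.Good p A := by
  classical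
  have : Module.Finite F W := Module.Finite.of_finite
  have hnt : Nontrivial W := by
    by_contra hcon
    rw [not_nontrivial_iff_subsingleton] at hcon
    obtain ⟨w, hw⟩ := huniv 1
    have : w = 0 := Subsingleton.elim _ _
    rw [this, QuadraticMap.map_zero] at hw
    exact zero_ne_one hw
  have hfinG : Finite (Gam (frm m N)) := inferInstance
  have hfinL : Finite ((Fin m → W) ≃ₗ[F] (Fin m → W)) :=
    Finite.of_injective (fun f => (f : (Fin m → W) → (Fin m → W))) DFunLike.coe_injective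
  have hfinN : Finite (W ≃ₗ[F] W) := Finite.of_injective (fun f => (f : W → W)) DFunLike.coe_injective
  have hsimple : IsSimpleGroup (PE (frm m N)) := good_isSimpleGroup hG
  have hodd : Odd p := hp.out.odd_of_ne_two hp2
  have hZ : Subgroup.center (PE (frm m N)) = ⊥ := center_PE hG
  -- an element of order `p` of the summand
  obtain ⟨t₀, ht₀⟩ := exists_prime_orderOf_dvd_card' p hpN
  have ht₀' : t₀ ^ p = 1 := by rw [← ht₀]; exact pow_orderOf_eq_one t₀
  have ht₀1 : t₀ ≠ 1 := by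
    rintro rfl
    rw [orderOf_one] at ht₀
    exact hp.out.one_lt.ne ht₀
  have hC : ¬ p ∣ Nat.card ℤˣ := by
    rw [Nat.card_eq_fintype_card, Fintype.card_units_int]
    intro h
    exact hp2 ((Nat.prime_dvd_prime_iff_eq hp.out Nat.prime_two).1 h)
  have hcard0 : Finite ↥(E (frm m N)) := inferInstance
  -- the transposition
  obtain ⟨i0, i1, i2, h01, h02, h12⟩ : ∃ i0 i1 i2 : Fin m, i0 ≠ i1 ∧ i0 ≠ i2 ∧ i1 ≠ i2 :=
    ⟨⟨0, by omega⟩, ⟨1, by omega⟩, ⟨2, by omega⟩, by simp [Fin.ext_iff], by simp [Fin.ext_iff],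
      by simp [Fin.ext_iff]⟩
  obtain ⟨h, hh⟩ := exists_adjust hG huniv i2 (pmO m N (Equiv.swap i0 i1))
  have hxM : IsM (toG _ (pmO m N (Equiv.swap i0 i1) * dgO m N (Pi.mulSingle i2 h))).1
      (Equiv.swap i0 i1) := by
    have := (isM_pmO (N := N) (Equiv.swap i0 i1)).comp (isM_dgO (Pi.mulSingle i2 h : Fin m → O N))
    rw [mul_one] at this
    exact this
  refine good_of_index hZ hC (Psi (frm m N)) (X m N)
    ((Equiv.Perm.sign).comp (permX m N)) (index_X hss hval) (T m hN) (T_le_X hN) (T_pGroup hN)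
    (fun y hy t ht => T_conj hN hy ht) ?_ ?_
    ⟨toG _ (pmO m N (Equiv.swap i0 i1) * dgO m N (Pi.mulSingle i2 h)), _, hxM⟩ ?_ ?_ A hA hAρ Q hQ
  · -- `T` consists of inner automorphisms
    rintro _ ⟨t, ⟨k, hk⟩, rfl⟩
    have h1 : (dgO m N t).1 ∈ E (frm m N) := by
      refine mem_E_of_pow hG hodd (dgO m N t).2 (k := k) ?_
      have h2 : (dgO m N t) ^ p ^ k = 1 := by rw [← map_pow, hk, map_one]
      exact congrArg Subtype.val h2
    exact ⟨_, (Psi_toG _ h1).symm⟩
  · -- detection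
    intro y _ hy
    suffices hπ : permX m N y = 1 by
      rw [MonoidHom.comp_apply, hπ, map_one]
    by_contra hπ
    obtain ⟨i, hi⟩ : ∃ i, permX m N y i ≠ i := by
      by_contra hcon
      push Not at hcon
      exact hπ (Equiv.ext hcon)
    have hyM := isM_permX y
    obtain ⟨π, hπ'⟩ : ∃ π, π = permX m N y := ⟨_, rfl⟩
    rw [← hπ'] at hi hyM hπ
    obtain ⟨t, ht⟩ : ∃ t : Fin m → O N, t = Pi.mulSingle i t₀ := ⟨_, rfl⟩
    have htT : toG _ (dgO m N t) ∈ T m hN := by
      refine ⟨t, ⟨1, ?_⟩, rfl⟩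
      rw [pow_one, ht, ← Pi.mulSingle_pow, ht₀', Pi.mulSingle_one]
    have h1 := hy _ htT
    have h2 : (y : Gam (frm m N)) * toG _ (dgO m N t) * (y : Gam (frm m N))⁻¹ *
        (toG _ (dgO m N t))⁻¹ ∈ (Psi (frm m N)).ker := by
      rw [MonoidHom.mem_ker, map_mul, h1, map_inv, mul_inv_cancel]
    rw [ker_Psi hG] at h2
    obtain ⟨a, ha⟩ := h2
    have h4 : (y : Gam (frm m N)) * toG _ (dgO m N t) * (y : Gam (frm m N))⁻¹ =
        scal (frm m N) a * toG _ (dgO m N t) := by
      rw [ha, inv_mul_cancel_right]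
    -- evaluate
    have h5 : ∀ j, j ≠ π i → ∀ w : W, Pi.single j w = (a : F) • (Pi.single j ((t j).1 w) : Fin m → W) := by
      intro j hj w
      have e1 := congrArg (fun z : Gam (frm m N) => z.1 (Pi.single j w)) h4
      have e2 : (y : Gam (frm m N)).1⁻¹ (Pi.single j w) = Pi.single (π⁻¹ j)
          ((y : Gam (frm m N)).1⁻¹ (Pi.single j w) (π⁻¹ j)) :=
        (hyM.symm (gam_map_zero _) (add_of_mem (y : Gam (frm m N)).2)).eq_single j w
      have hij : π⁻¹ j ≠ i := by
        intro e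
        apply hj
        rw [← e]
        exact (π.apply_symm_apply j).symm
      have e3 : ((y : Gam (frm m N)) * toG _ (dgO m N t) * (y : Gam (frm m N))⁻¹).1 (Pi.single j w) =
          Pi.single j w := by
        show (y : Gam (frm m N)).1 ((toG _ (dgO m N t)).1 ((y : Gam (frm m N)).1⁻¹ (Pi.single j w))) = _
        rw [e2, toG_apply, dgO_single, ht, Pi.mulSingle_eq_of_ne hij]
        show (y : Gam (frm m N)).1 (Pi.single (π⁻¹ j) ((y : Gam (frm m N)).1⁻¹ (Pi.single j w) (π⁻¹ j))) = _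
        rw [← e2]
        exact (y : Gam (frm m N)).1.apply_symm_apply _
      have e4 : (scal (frm m N) a * toG _ (dgO m N t)).1 (Pi.single j w) =
          (a : F) • (Pi.single j ((t j).1 w) : Fin m → W) := by
        show (a : F) • (toG _ (dgO m N t)).1 (Pi.single j w) = _
        rw [toG_apply, dgO_single]
      exact e3.symm.trans (e1.trans e4)
    -- a third index
    obtain ⟨j, hj1, hj2⟩ : ∃ j : Fin m, j ≠ i ∧ j ≠ π i := by
      by_contra hcon
      push Not at hcon
      have h6 : (Finset.univ : Finset (Fin m)) ⊆ {i, π i} := by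
        intro j _
        rw [Finset.mem_insert, Finset.mem_singleton]
        by_cases hj : j = i
        · exact Or.inl hj
        · exact Or.inr (hcon j hj)
      have h7 := Finset.card_le_card h6
      rw [Finset.card_univ, Fintype.card_fin] at h7
      have h8 := Finset.card_le_two (a := i) (b := π i)
      omega
    obtain ⟨w, hw⟩ := exists_ne (0 : W)
    have ha1 : (a : F) = 1 := by
      have h6 := congrFun (h5 j hj2 w) j
      rw [ht, Pi.mulSingle_eq_of_ne hj1, Pi.smul_apply, Pi.single_eq_same, Pi.single_eq_same] at h6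
      have h7 : ((a : F) - 1) • w = 0 := by
        rw [sub_smul, one_smul, sub_eq_zero]
        exact h6.symm
      rcases smul_eq_zero.1 h7 with h8 | h8
      · exact sub_eq_zero.1 h8
      · exact absurd h8 hw
    apply ht₀1
    apply Subtype.ext
    apply LinearEquiv.ext
    intro w
    have h6 := congrFun (h5 i (Ne.symm hi) w) i
    rw [ht, Pi.mulSingle_eq_same, Pi.smul_apply, Pi.single_eq_same, Pi.single_eq_same, ha1, one_smul] at h6
    exact h6.symm
  · -- the transposition is inner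
    exact ⟨_, (Psi_toG _ hh).symm⟩
  · rw [MonoidHom.comp_apply, permX_eq hxM, Equiv.Perm.sign_swap h01]
    decide

end Cfsg.Agent.H709.OrthFrame
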