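import Cfsg.Agent.H709.GmnCrit
import Cfsg.Agent.Lib.NormalAbelian

/-!
Fusion criterion for the Guralnick-Malle-Navarro rows: if every element `z` of order `p` of `S` is
conjugate to a power `z ^ k` with `k ≢ 1 (mod p)`, then every `p`-group of automorphisms containing
a Sylow `p`-subgroup of `S` is normalised and not centralised by a `p'`-element of `S`.
-/

set_option autoImplicit false

namespace Cfsg.Agent.H709.GmnFus

open Subgroup Cfsg.Agent.H709.GmnCrit

theorem good_of_fusion {S : Type*} [Group S] [Finite S] {p : ℕ} [hp : Fact p.Prime]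
    (hZ : Subgroup.center S = ⊥) (hdvd : p ∣ Nat.card S)
    (h : ∀ z : S, orderOf z = p → ∃ k : ℕ, ¬ k ≡ 1 [MOD p] ∧ IsConj z (z ^ k))
    (A : Subgroup (MulAut S)) (hA : IsPGroup p A) (Q : Sylow p S)
    (hQ : (Q : Subgroup S).map MulAut.conj ≤ A) : Good p A := by
  have hInn := inn_normal S
  have hfin : Finite (MulAut S) :=
    Finite.of_injective (fun α : MulAut S => (α : S → S)) (fun α β h => MulEquiv.ext fun x => congrFun h x)
  -- a central element of order `p`
  obtain ⟨z, hz1, hz2, hz3⟩ : ∃ z : S, orderOf z = p ∧ MulAut.conj z ∈ A ∧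
      ∀ a ∈ A, a * MulAut.conj z = MulAut.conj z * a := by
    let N : Subgroup A := (Inn S).subgroupOf A
    have hN : N.Normal := inferInstance
    have hNe : N ≠ ⊥ := by
      intro h0
      have hQne : (Q : Subgroup S) ≠ ⊥ := Q.ne_bot_of_dvd_card hdvd
      obtain ⟨x, hx, hx1⟩ := (Subgroup.ne_bot_iff_exists_ne_one (H := (Q : Subgroup S))).1 hQne |>.elim
        (fun x hx => (⟨x.1, x.2, fun h => hx (Subtype.ext h)⟩ : ∃ x : S, x ∈ (Q : Subgroup S) ∧ x ≠ 1))
      have h1 : (⟨MulAut.conj x, hQ (Subgroup.mem_map_of_mem _ hx)⟩ : A) ∈ N := ⟨x, rfl⟩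
      rw [h0, Subgroup.mem_bot] at h1
      apply hx1
      apply conj_injective hZ
      rw [map_one]
      exact congrArg Subtype.val h1
    have : Group.IsNilpotent A := hA.isNilpotent
    have h2 := Cfsg.Agent.Lib.NormalAbelian.normal_inf_center_ne_bot N hNe
    have h3 : IsPGroup p (N ⊓ Subgroup.center A : Subgroup A) := hA.to_subgroup _
    obtain ⟨k, hk⟩ := h3.exists_card_eq
    have h4 : p ∣ Nat.card (N ⊓ Subgroup.center A : Subgroup A) := by
      rw [hk]
      apply dvd_pow_self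
      rintro rfl
      rw [pow_zero] at hk
      exact h2 (Subgroup.eq_bot_of_card_eq _ hk)
    obtain ⟨⟨y, hy1, hy2⟩, hy⟩ := exists_prime_orderOf_dvd_card' p h4
    obtain ⟨z, hz⟩ := hy1
    have h5 : orderOf (y : A) = p := by rw [← hy]; exact Subgroup.orderOf_coe (a := (⟨y, _⟩ : (N ⊓ Subgroup.center A : Subgroup A)))
    refine ⟨z, ?_, ?_, ?_⟩
    · rw [← orderOf_injective _ (conj_injective hZ) z]
      change orderOf (MulAut.conj z) = p
      have hz' : MulAut.conj z = (y : MulAut S) := hz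
      rw [hz', ← h5, Subgroup.orderOf_coe]
    · have hz' : MulAut.conj z = (y : MulAut S) := hz
      rw [hz']
      exact y.2
    · intro a ha
      have hz' : MulAut.conj z = (y : MulAut S) := hz
      rw [hz']
      have := Subgroup.mem_center_iff.1 hy2 ⟨a, ha⟩
      exact congrArg Subtype.val this
  obtain ⟨k, hk1, hk2⟩ := h z hz1
  -- the group `G = A · Inn S`
  let G : Subgroup (MulAut S) := A ⊔ Inn S
  have hAG : A ≤ G := le_sup_left
  let P : Sylow p G :=
    { toSubgroup := A.subgroupOf G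
      isPGroup' := hA.comap_of_injective G.subtype Subtype.val_injective
      is_maximal' := by
        intro B hB hAB
        have h1 : B.map G.subtype = A := by
          apply max_of_sylow hZ Q A hQ _ (hB.map _)
          · rw [← Subgroup.map_subgroupOf_eq_of_le hAG]
            exact Subgroup.map_mono hAB
          · exact (Subgroup.map_le_range _ _).trans (by rw [Subgroup.range_subtype])
        rw [← h1]
        exact (Subgroup.comap_map_eq_self_of_injective Subtype.val_injective B).symm }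
  obtain ⟨g, hg⟩ := isConj_iff.1 hk2
  have hgG : (MulAut.conj g : MulAut S) ∈ G := (le_sup_right : Inn S ≤ G) ⟨g, rfl⟩
  have hzG : (MulAut.conj z : MulAut S) ∈ G := hAG hz2
  let x : G := ⟨MulAut.conj z, hzG⟩
  let g' : G := ⟨MulAut.conj g, hgG⟩
  have hxg : g'⁻¹⁻¹ * x * g'⁻¹ = x ^ k := by
    apply Subtype.ext
    change (MulAut.conj g)⁻¹⁻¹ * MulAut.conj z * (MulAut.conj g)⁻¹ = (MulAut.conj z) ^ k
    rw [inv_inv, ← map_inv, ← map_mul, ← map_mul, hg, map_pow]
  have hxP : x ∈ centralizer ((P : Subgroup G) : Set G) := by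
    rw [Subgroup.mem_centralizer_iff]
    intro a ha
    exact Subtype.ext (hz3 a ha)
  obtain ⟨n, hn, hn'⟩ := P.conj_eq_normalizer_conj_of_mem_centralizer x g'⁻¹ hxP (by
    rw [hxg]
    exact Subgroup.pow_mem _ hxP k)
  rw [hxg] at hn'
  -- the `p'`-part of `n`
  obtain ⟨j, hj⟩ := exists_pPrime_pow (p := p) n⁻¹
  have hnN : n⁻¹ ∈ normalizer ((P : Subgroup G) : Set G) := Subgroup.inv_mem _ hn
  have hy1 : (n⁻¹) ^ p ^ j ∈ normalizer ((P : Subgroup G) : Set G) := Subgroup.pow_mem _ hnN _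
  have hconj : ∀ i : ℕ, (n⁻¹) ^ i * x * ((n⁻¹) ^ i)⁻¹ = x ^ (k ^ i) := by
    intro i
    induction i with
    | zero => simp
    | succ i ih =>
      rw [pow_succ' n⁻¹ i, mul_inv_rev]
      calc n⁻¹ * n⁻¹ ^ i * x * ((n⁻¹ ^ i)⁻¹ * n⁻¹⁻¹) = n⁻¹ * (n⁻¹ ^ i * x * (n⁻¹ ^ i)⁻¹) * n := by group
        _ = n⁻¹ * x ^ (k ^ i) * n := by rw [ih]
        _ = (n⁻¹ * x * n) ^ (k ^ i) := by
          have := conj_pow (i := k ^ i) (a := n⁻¹) (b := x)
          rw [inv_inv] at this
          exact this.symm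
        _ = x ^ (k ^ (i + 1)) := by rw [← hn', ← pow_mul, pow_succ']
  have hxo : orderOf x = p := by
    rw [← hz1, ← orderOf_injective _ (conj_injective hZ) z]
    exact (Subgroup.orderOf_coe (a := x)).symm
  have hmove : (n⁻¹) ^ p ^ j * x * ((n⁻¹) ^ p ^ j)⁻¹ ≠ x := by
    rw [hconj]
    intro h1
    apply hk1
    have h2 : k ^ p ^ j ≡ 1 [MOD p] := by
      have h4 : k ^ p ^ j ≡ 1 [MOD orderOf x] := (pow_eq_pow_iff_modEq (x := x)).1 (by rw [h1, pow_one])
      rwa [hxo] at h4
    have h3 : k ^ p ^ j ≡ k [MOD p] := by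
      rw [← ZMod.natCast_eq_natCast_iff]
      push_cast
      exact ZMod.pow_card_pow (k : ZMod p)
    exact h3.symm.trans h2
  have hsup : ((n⁻¹ ^ p ^ j : G) : MulAut S) ∈ A ⊔ Inn S := (n⁻¹ ^ p ^ j : G).2
  have hinner := inner_of_mem_sup (p := p) hA hsup (by rwa [Subgroup.orderOf_coe])
  obtain ⟨s, hs⟩ := hinner
  refine ⟨s, ?_, ?_, MulAut.conj z, hz2, ?_⟩
  · rw [← orderOf_injective _ (conj_injective hZ) s, hs, Subgroup.orderOf_coe]
    exact hj
  · rw [hs]
    have h1 := Subgroup.le_normalizer_map G.subtype (Subgroup.mem_map_of_mem G.subtype hy1)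
    have h2 : (P : Subgroup G).map G.subtype = A := Subgroup.map_subgroupOf_eq_of_le hAG
    rw [h2] at h1
    exact h1
  · rw [hs]
    intro h1
    apply hmove
    apply Subtype.ext
    change ((n⁻¹ ^ p ^ j : G) : MulAut S) * MulAut.conj z * (((n⁻¹ ^ p ^ j : G) : MulAut S))⁻¹ = MulAut.conj z
    rw [← h1, mul_inv_cancel_right]

end Cfsg.Agent.H709.GmnFus
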