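import Cfsg.Agent.H709.GmnPSU
import Cfsg.Agent.H467.OddNormRow

/-!
# S3855, row `PSU_n(q)`, `p ∣ q + 1` (task ON-PSU-a)

The stabiliser of an orthogonal frame in the semilinear unitary group has index prime to `p`; the sign of
the permutation of the frame is `-1` on an element of `SU_n(q)`.
-/

set_option autoImplicit false
set_option linter.unusedSectionVars false

namespace Cfsg.Agent.H709.OnPSU

open Cfsg Matrix
open Cfsg.Agent.LieClassical.SUBasic
open Cfsg.Agent.ClassicalGeometry.PSUAutCount Cfsg.Agent.ClassicalGeometry.UnitAutBasic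
open Cfsg.Agent.H183.OutPSU Cfsg.Agent.H709.Mono Cfsg.Agent.H709.GmnCrit Cfsg.Agent.H709.GmnPSU
open Cfsg.Agent.ClassicalGeometry.GUBasic

theorem center_PSU {K : Type*} [Field K] [Fintype K] {n q : ℕ} (hK : Fintype.card K = q ^ 2) (hn : 3 ≤ n)
    (h32 : ¬ (n = 3 ∧ q = 2)) : Subgroup.center (PSU n K q) = ⊥ := by
  have hperf : commutator (PSU n K q) = ⊤ := by
    have h3 := Cfsg.Agent.LieClassical.HermPerfect.commutator_SU_eq_top hK hn h32
    have h4 : (commutator (SU n K q)).map (pr n K q) = commutator (PSU n K q) := by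
      rw [commutator_def, commutator_def, Subgroup.map_commutator, ← MonoidHom.range_eq_map,
        MonoidHom.range_eq_top.2 pr_surjective]
    rw [← h4, h3, ← MonoidHom.range_eq_map, MonoidHom.range_eq_top.2 pr_surjective]
  have hsimple : IsSimpleGroup (PSU n K q) := Cfsg.Agent.S0283.result hK n hn h32
  exact center_eq_bot_of_perfect hperf

/-- **Row** `PSU_n(q)`, `p ∣ q + 1`. -/
theorem psu_a {K : Type*} [Field K] [Fintype K] {q n p : ℕ} [hp : Fact p.Prime] (hK : Fintype.card K = q ^ 2)
    (hn : 3 ≤ n) (h32 : ¬ (n = 3 ∧ q = 2)) (hp2 : p ≠ 2) (hpq : p ∣ q + 1) :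
    Cfsg.Agent.H467.OddNorm.Ev p (PSU n K q) := by
  classical
  have hfin : Finite (GU n K q) := LieClassical.GUOrder.finite_GU n
  have hfinP : Finite (PSU n K q) := Finite.of_surjective _ (pr_surjective (n := n) (F := K) (q := q))
  have hsurj := Cfsg.Agent.ClassicalGeometry.PSUAutMain.exists_toAut hK hn h32
  obtain ⟨w, hw1, hw2⟩ := exists_swap hK (n := n) (by omega)
  have hrs : Function.Surjective (rho n q K) := by
    intro α
    obtain ⟨B, σ, rfl⟩ := hsurj α
    exact ⟨⟨B, σ⟩, rho_apply _⟩
  have hwi : rho n q K (SemidirectProduct.inl w) ∈ Inn (PSU n K q) := by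
    rw [rho_inl]
    exact cG_inner hw2
  obtain ⟨s, hs⟩ := hwi
  refine Cfsg.Agent.H467.OddNorm.Ev.of_range (Γ := X n q K) hp2 (center_PSU hK hn h32)
    ((rho n q K).comp (X n q K).subtype) ?_ (Equiv.Perm.sign.comp (permX n q K)) ?_
    (γ := ⟨SemidirectProduct.inl w, _, hw1⟩) (s := s) hs.symm ?_
  · intro h
    apply index_X hK hp2 hpq (n := n)
    have h1 : ((rho n q K).comp (X n q K).subtype).range = (X n q K).map (rho n q K) := by
      rw [MonoidHom.range_comp, Subgroup.range_subtype]
    rw [h1] at h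
    exact h.trans (Subgroup.index_map_dvd _ hrs)
  · intro γ hγ
    change rho n q K (γ : Gam n q K) = 1 at hγ
    have h0 : rho n q K (1 : Gam n q K) = 1 := map_one _
    rw [← h0, rho_apply, rho_apply] at hγ
    obtain ⟨hr, c, hc, h6⟩ := eq_of_toAut_eq hK hn hγ.symm
    have h7 : permX n q K γ = 1 := by
      apply permX_eq
      rw [h6]
      intro i j hij
      have h8 : gm (1 : Gam n q K).left = (1 : Matrix (Fin n) (Fin n) K) := gm_one
      rw [h8, Matrix.smul_apply, Matrix.one_apply_ne, smul_zero]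
      exact hij
    change Equiv.Perm.sign (permX n q K γ) = 1
    rw [h7, Equiv.Perm.sign_one]
  · change Equiv.Perm.sign (permX n q K _) ≠ 1
    have h1 : permX n q K ⟨SemidirectProduct.inl w, _, hw1⟩ = _ := permX_eq hw1
    rw [h1, Equiv.Perm.sign_swap]
    · decide
    · intro h
      have := congrArg Fin.val h
      exact absurd this (by norm_num)

end Cfsg.Agent.H709.OnPSU
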